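import Cfsg.Agent.Fi23Mult.Lift
import Cfsg.Agent.CosetCert.LowerSub
import Cfsg.Agent.CosetCert.Fi23Index31671.Main
import Cfsg.Agent.Fi23Mult.X7Levels
import Cfsg.Agent.Fi23Mult.X8Levels
import Cfsg.Agent.Fi23Mult.E7.ValidCert
import Cfsg.Agent.Fi23Mult.E7.Main
import Cfsg.Agent.Fi23Mult.E8.ValidCert
import Cfsg.Agent.Fi23Mult.E8.Main
import Cfsg.Agent.Fi23Mult.W240.Main
import Cfsg.Agent.Fi23Mult.W56.Main
import Cfsg.Agent.Fi23Mult.W28.Main
import Cfsg.Agent.Fi23Mult.W27.Main
import Cfsg.Agent.Fi23Mult.W16.Main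
import Cfsg.Agent.Fi23Mult.W5.Main
import Cfsg.Agent.Fi23Mult.W4.Main
import Cfsg.Agent.Fi23Mult.W3.Main
import Cfsg.Agent.Fi23Mult.W2.Main

/-!
# The value of the spider word in a central extension of Fi23

Two subgroups on seven and eight generators embed, or nearly embed, and they absorb the cube of
the spider word and the spider word itself.
-/

set_option autoImplicit false
set_option maxRecDepth 100000
set_option maxHeartbeats 2000000

namespace Cfsg.Agent.Fi23Mult

open Cfsg.Spor Cfsg.Agent.CosetCert
open Cfsg.Agent.Fi23Centralizer (rels23)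

/-- The relators that hold in every central extension. -/
def RLQ : List (List (Fi23.Gen × Bool)) :=
  ((pairsOf genList).map fun p => powPair p.1 p.2 (coxLabel Fi23.edges p.1 p.2)) ++
    [sgn AW, sgn (UW ++ ([Fi23.Gen.i] ++ (UW.reverse ++ [Fi23.Gen.i])))]

/-- The relators as a set. -/
abbrev RQ : Set (FreeGroup Fi23.Gen) := wordRels RLQ

theorem rel_ok {K : ℕ} (f : Fin K → Fi23.Gen) (RL : List (List (Fin K × Bool)))
    (h : (RL.all fun l => decide (l.map (fun a => (f a.1, a.2)) ∈ RLQ)) = true) :
    ∀ l ∈ RL, PresentedGroup.mk RQ (FreeGroup.mk (l.map fun a => (f a.1, a.2))) = 1 :=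
  fun l hl => PresentedGroup.one_of_mem
    (List.mem_map_of_mem (of_decide_eq_true (List.all_eq_true.1 h l hl)))

theorem bound2 : Finite (letterSub RQ ((List.finRange 1).map W2.ren)) ∧
    Nat.card (letterSub RQ ((List.finRange 1).map W2.ren)) ≤ 2 * 1 :=
  letterSub_card_le W2.ren (List.finRange 1) W2.subLetters [] rfl List.mem_finRange
    (rel_ok W2.ren W2.relWords (by decide +kernel)) W2.index_bound (letterSub_nil_card RQ)

theorem bound3 : Finite (letterSub RQ ((List.finRange 2).map W3.ren)) ∧
    Nat.card (letterSub RQ ((List.finRange 2).map W3.ren)) ≤ 3 * (2 * 1) :=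
  letterSub_card_le W3.ren (List.finRange 2) W3.subLetters _ (by decide +kernel) List.mem_finRange
    (rel_ok W3.ren W3.relWords (by decide +kernel)) W3.index_bound bound2

theorem bound4 : Finite (letterSub RQ ((List.finRange 3).map W4.ren)) ∧
    Nat.card (letterSub RQ ((List.finRange 3).map W4.ren)) ≤ 4 * (3 * (2 * 1)) :=
  letterSub_card_le W4.ren (List.finRange 3) W4.subLetters _ (by decide +kernel) List.mem_finRange
    (rel_ok W4.ren W4.relWords (by decide +kernel)) W4.index_bound bound3

theorem bound5 : Finite (letterSub RQ ((List.finRange 4).map W5.ren)) ∧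
    Nat.card (letterSub RQ ((List.finRange 4).map W5.ren)) ≤ 120 := by
  have h := letterSub_card_le W5.ren (List.finRange 4) W5.subLetters _ (by decide +kernel)
    List.mem_finRange (rel_ok W5.ren W5.relWords (by decide +kernel)) W5.index_bound bound4
  exact ⟨h.1, h.2.trans (by decide)⟩

theorem bound16 : Finite (letterSub RQ ((List.finRange 5).map W16.ren)) ∧
    Nat.card (letterSub RQ ((List.finRange 5).map W16.ren)) ≤ 16 * 120 :=
  letterSub_card_le W16.ren (List.finRange 5) W16.subLetters _ (by decide +kernel) List.mem_finRange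
    (rel_ok W16.ren W16.relWords (by decide +kernel)) W16.index_bound bound5

theorem bound27 : Finite (letterSub RQ ((List.finRange 6).map W27.ren)) ∧
    Nat.card (letterSub RQ ((List.finRange 6).map W27.ren)) ≤ 27 * (16 * 120) :=
  letterSub_card_le W27.ren (List.finRange 6) W27.subLetters _ (by decide +kernel) List.mem_finRange
    (rel_ok W27.ren W27.relWords (by decide +kernel)) W27.index_bound bound16

theorem bound56 : Finite (letterSub RQ ((List.finRange 7).map W56.ren)) ∧
    Nat.card (letterSub RQ ((List.finRange 7).map W56.ren)) ≤ 56 * (27 * (16 * 120)) :=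
  letterSub_card_le W56.ren (List.finRange 7) W56.subLetters _ (by decide +kernel) List.mem_finRange
    (rel_ok W56.ren W56.relWords (by decide +kernel)) W56.index_bound bound27

/-- The generators of the first subgroup. -/
def L7 : List Fi23.Gen := [.a, .b, .c, .d, .e, .f, .h]

/-- The generators of the second subgroup. -/
def L8 : List Fi23.Gen := [.b, .c, .d, .e, .f, .g, .j, .h]

theorem bound_L7 : Finite (letterSub RQ L7) ∧ Nat.card (letterSub RQ L7) ≤ 1451520 := by
  have h := letterSub_card_le W28.ren (List.finRange 7) W28.subLetters _ (by decide +kernel)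
    List.mem_finRange (rel_ok W28.ren W28.relWords (by decide +kernel)) W28.index_bound bound27
  rw [show (List.finRange 7).map W28.ren = L7 by decide +kernel] at h
  exact ⟨h.1, h.2.trans (by decide)⟩

theorem bound_L8 : Finite (letterSub RQ L8) ∧ Nat.card (letterSub RQ L8) ≤ 696729600 := by
  have h := letterSub_card_le W240.ren (List.finRange 8) W240.subLetters _ (by decide +kernel)
    List.mem_finRange (rel_ok W240.ren W240.relWords (by decide +kernel)) W240.index_bound bound56
  rw [show (List.finRange 8).map W240.ren = L8 by decide +kernel] at h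
  exact ⟨h.1, h.2.trans (by decide)⟩

/-- A subgroup of Fi23 that contains some generators is at least as big as their orbit lengths. -/
theorem lower (X : Subgroup Fi23) (l : List Fi23.Gen) (hX : ∀ b ∈ l, PresentedGroup.of b ∈ X)
    (levels : List Data.Level) (hok : Fi23Index31671.data.LevelsOK [] levels)
    (hlet : (levels.all fun L => L.gens.all fun w => w.all fun x =>
      (l.map Fi23Index31671.enc).contains x) = true) :
    (levels.map Data.Level.size).prod ≤ Nat.card X := by
  have : Finite Fi23 := Fi23Order.card_bound.1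
  obtain ⟨φ, π, -, hfwd⟩ := Data.enumeration Fi23Index31671.valid Fi23Index31671.spells
  refine Data.lower_bound_sub Fi23Index31671.valid Fi23Index31671.spells φ hfwd X
    (l.map Fi23Index31671.enc) (fun x hx => ?_) levels hok (fun L hL w hw x hx => ?_)
  · obtain ⟨b, hb, rfl⟩ := List.mem_map.1 hx
    rw [(Fi23Index31671.spells.enc_lt b).2]
    exact hX b hb
  · exact List.contains_iff_mem.1
      (List.all_eq_true.1 (List.all_eq_true.1 (List.all_eq_true.1 hlet L hL) w hw) x hx)

theorem transport {K : ℕ} {D : Data} {RL : List (List (Fin K × Bool))} {S : List (Fin K)}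
    {enc : Fin K → Nat} {dec : Nat → Fin K × Bool} (hv : D.Valid)
    (hs : Data.Spells D (wordRels RL) (S.map FreeGroup.of) enc dec RL)
    (f : Fin K → Fi23.Gen) (hR : (RL.all fun l => decide (l.map (fun a => (f a.1, a.2)) ∈ RLQ)) = true)
    (next : List Fi23.Gen) (hnext : S.map f = next) (l : List (Fin K))
    (hfix : D.fwd ((sgn l).map (Data.code D.iv enc)) 0 = 0)
    {Γ : Type*} [Group Γ] (θ : PresentedGroup RQ →* Γ)
    (hc : ((l.map f).map fun x => θ (PresentedGroup.of x)).prod ∈ Subgroup.center Γ) :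
    ((l.map f).map fun x => θ (PresentedGroup.of x)).prod ∈ (letterSub RQ next).map θ := by
  obtain ⟨φ, π, hπ, hfwd⟩ := Data.enumeration hv hs
  obtain ⟨ψ, hψ⟩ := exists_rename RL f (rel_ok f RL hR)
  obtain ⟨g, hg⟩ : ∃ g, g = PresentedGroup.mk (wordRels RL) (FreeGroup.mk (sgn l)) := ⟨_, rfl⟩
  let c : Fin D.n := ⟨0, hv.n_pos⟩
  have h1 : (φ g)⁻¹ c = c := Fin.ext (by rw [hg, hfwd]; exact hfix)
  have h2 : φ g c = c := by
    conv_lhs => rw [← h1]
    simp
  have h3 : g • π c = π c := by rw [← hπ, h2]
  obtain ⟨x, hx⟩ := QuotientGroup.mk_surjective (π c)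
  rw [← hx] at h3
  have h4 : x⁻¹ * g * x ∈ Data.sub (wordRels RL) (S.map FreeGroup.of) := by
    have : ((g * x : PresentedGroup (wordRels RL)) : _ ⧸ Data.sub (wordRels RL) (S.map FreeGroup.of)) =
        (x : _ ⧸ Data.sub (wordRels RL) (S.map FreeGroup.of)) := h3
    rw [mul_assoc]
    exact QuotientGroup.eq.1 this.symm
  have hH : (Data.sub (wordRels RL) (S.map FreeGroup.of)).map ψ ≤ letterSub RQ next := by
    rw [Data.sub, Subgroup.map_map, MonoidHom.map_closure, Subgroup.closure_le]
    rintro _ ⟨w, hw, rfl⟩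
    obtain ⟨b, hb, rfl⟩ := List.mem_map.1 hw
    apply Subgroup.subset_closure
    refine ⟨f b, hnext ▸ List.mem_map_of_mem hb, ?_⟩
    rw [MonoidHom.comp_apply, hψ, FreeGroup.map.of]; rfl
  have hval : θ (ψ g) = ((l.map f).map fun x => θ (PresentedGroup.of x)).prod := by
    rw [hg, hψ, FreeGroup.map.mk, List.map_map]
    have : (sgn l).map (fun a => (f a.1, a.2)) = sgn (l.map f) := by simp [sgn, Function.comp_def]
    rw [this]
    exact (mk_sgn (θ.comp (PresentedGroup.mk RQ)) (l.map f)).trans (by rw [List.map_map]; rfl)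
  have h5 := Subgroup.mem_map_of_mem θ (hH (Subgroup.mem_map_of_mem ψ h4))
  simp only [map_mul, map_inv] at h5
  rw [hval] at h5
  rwa [mul_assoc, central hc, inv_mul_cancel_left] at h5

theorem small_kernel {Γ : Type*} [Group Γ] (σ : Γ →* Fi23) (K : Subgroup Γ) [Finite K] {n m : ℕ}
    (hn : 0 < n) (hlow : n ≤ Nat.card (K.map σ)) (hup : Nat.card K ≤ m * n) {x : Γ} (hx : x ∈ K)
    (h1 : σ x = 1) : ∃ j, 0 < j ∧ j ≤ m ∧ x ^ j = 1 := by
  obtain ⟨f, hf⟩ : ∃ f, f = σ.subgroupMap K := ⟨_, rfl⟩
  have hsurj : Function.Surjective f := hf ▸ σ.subgroupMap_surjective K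
  have hcard : Nat.card K = Nat.card f.ker * Nat.card (K.map σ) := by
    rw [← f.ker.card_mul_index, Subgroup.index_ker, MonoidHom.range_eq_top.2 hsurj,
      Nat.card_congr Subgroup.topEquiv.toEquiv]
  refine ⟨Nat.card f.ker, Nat.card_pos, ?_, ?_⟩
  · refine Nat.le_of_mul_le_mul_right ?_ hn
    exact ((Nat.mul_le_mul_left _ hlow).trans hcard.ge).trans hup
  · have hk : (⟨x, hx⟩ : K) ∈ f.ker := by
      rw [MonoidHom.mem_ker, hf]
      exact Subtype.ext h1
    exact congrArg (fun y : f.ker => ((y : K) : Γ)) (pow_card_eq_one' (x := (⟨_, hk⟩ : f.ker)))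

/-- The spider word of suitable lifts is trivial. -/
theorem spider {Γ : Type*} [Group Γ] (σ : Γ →* Fi23) (ho : σ.ker ≤ Subgroup.center Γ)
    (L : Fi23.Gen → Γ) (hsigma : ∀ x, σ (L x) = PresentedGroup.of x)
    (hrel : ∀ x y, (L x * L y) ^ lab x y = 1) (hA : (AW.map L).prod = 1) :
    (SW.map L).prod = 1 := by
  have hsq : ∀ x, L x * L x = 1 := fun x => by
    have := hrel x x; rwa [lab_self, pow_one] at this
  have hrels : ∀ r ∈ RQ, FreeGroup.lift L r = 1 := by
    intro r hr
    obtain ⟨l, hl, rfl⟩ := List.mem_map.1 hr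
    rcases List.mem_append.1 hl with hl | hl
    · obtain ⟨p, -, rfl⟩ := List.mem_map.1 hl
      rw [mk_powPair, map_pow, map_mul, FreeGroup.lift_apply_of, FreeGroup.lift_apply_of]
      exact hrel p.1 p.2
    · have hp : ∀ w : List Fi23.Gen, FreeGroup.lift L (FreeGroup.mk (sgn w)) = (w.map L).prod :=
        fun w => (mk_sgn (FreeGroup.lift L) w).trans (by simp)
      rcases List.mem_cons.1 hl with rfl | hl
      · rw [hp, hA]
      · rw [List.mem_singleton.1 hl, hp]
        have hU := prod_rev (L := L) (one_mem (Subgroup.center Γ)) hsq UW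
        rw [one_pow] at hU
        simp only [List.map_append, List.prod_append, List.map_singleton, List.prod_singleton]
        rw [← mul_assoc, (lift_U_commute ho hsigma hrel).eq, mul_assoc,
          ← mul_assoc (UW.map L).prod, hU, one_mul, hsq]
  let θ : PresentedGroup RQ →* Γ := PresentedGroup.toGroup hrels
  have hθ : ∀ x, θ (PresentedGroup.of x) = L x := fun x => PresentedGroup.toGroup.of hrels
  obtain ⟨s, hs⟩ : ∃ s, s = (SW.map L).prod := ⟨_, rfl⟩
  have hsk : σ s = 1 := by rw [hs, sigma_prod σ hsigma, G_word_S]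
  have hsc : s ∈ Subgroup.center Γ := ho hsk
  have hpow : ∀ n, (((List.replicate n SW).flatten).map fun x => θ (PresentedGroup.of x)).prod
      = s ^ n := fun n => by
    induction n with
    | zero => simp
    | succ n ih =>
      rw [List.replicate_succ, List.flatten_cons, List.map_append, List.prod_append, ih, pow_succ']
      simp only [hθ, hs]
  have himage : ∀ (l : List Fi23.Gen) (b : Fi23.Gen), b ∈ l →
      PresentedGroup.of b ∈ ((letterSub RQ l).map θ).map σ := fun l b hb =>
    ⟨_, ⟨_, Subgroup.subset_closure ⟨b, hb, rfl⟩, rfl⟩, by rw [hθ, hsigma]⟩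
  have key : ∀ (l : List Fi23.Gen) (levels : List Data.Level) (n m : ℕ), 0 < n →
      Fi23Index31671.data.LevelsOK [] levels →
      (levels.all fun L => L.gens.all fun w => w.all fun x =>
        (l.map Fi23Index31671.enc).contains x) = true →
      (levels.map Data.Level.size).prod = n →
      Finite (letterSub RQ l) ∧ Nat.card (letterSub RQ l) ≤ m * n →
      ∀ x ∈ (letterSub RQ l).map θ, σ x = 1 → ∃ j, 0 < j ∧ j ≤ m ∧ x ^ j = 1 := by
    intro l levels n m hn hok hlet hprod hb x hx h1
    have := hb.1
    have : Finite ((letterSub RQ l).map θ) :=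
      Finite.of_surjective _ (θ.subgroupMap_surjective (letterSub RQ l))
    exact small_kernel σ _ hn
      (hprod ▸ lower _ l (himage l) levels hok hlet)
      ((Nat.card_le_card_of_surjective _ (θ.subgroupMap_surjective (letterSub RQ l))).trans hb.2)
      hx h1
  have h3 : s ^ 3 = 1 := by
    have hm := transport E7.valid E7.spells E7.ren (by decide +kernel) L7 (by decide +kernel)
      (List.replicate 30 [3, 2, 1, 3, 4, 5, 3, 6, 7]).flatten (by decide +kernel) θ
      (by rw [show ((List.replicate 30 ([3, 2, 1, 3, 4, 5, 3, 6, 7] : List (Fin 8))).flatten).map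
            E7.ren = (List.replicate 3 SW).flatten by decide +kernel, hpow]
          exact pow_mem hsc 3)
    rw [show ((List.replicate 30 ([3, 2, 1, 3, 4, 5, 3, 6, 7] : List (Fin 8))).flatten).map
        E7.ren = (List.replicate 3 SW).flatten by decide +kernel, hpow] at hm
    obtain ⟨j, hj0, hj, hx⟩ := key L7 X7.levels 1451520 1 (by norm_num) X7.levels_ok
      (by decide +kernel) (by decide +kernel) bound_L7 _ hm (by rw [map_pow, hsk, one_pow])
    obtain rfl : j = 1 := by omega
    rwa [pow_one] at hx
  have h2 : s ^ 2 = 1 := by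
    have hm := transport E8.valid E8.spells E8.ren (by decide +kernel) L8 (by decide +kernel)
      (List.replicate 10 [2, 1, 0, 2, 3, 4, 2, 7, 8]).flatten (by decide +kernel) θ
      (by rw [show ((List.replicate 10 ([2, 1, 0, 2, 3, 4, 2, 7, 8] : List (Fin 9))).flatten).map
            E8.ren = (List.replicate 1 SW).flatten by decide +kernel, hpow]
          exact pow_mem hsc 1)
    rw [show ((List.replicate 10 ([2, 1, 0, 2, 3, 4, 2, 7, 8] : List (Fin 9))).flatten).map
        E8.ren = (List.replicate 1 SW).flatten by decide +kernel, hpow, pow_one] at hm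
    obtain ⟨j, hj0, hj, hx⟩ := key L8 X8.levels 348364800 2 (by norm_num) X8.levels_ok
      (by decide +kernel) (by decide +kernel) bound_L8 _ hm hsk
    obtain rfl | rfl : j = 1 ∨ j = 2 := by omega
    · rw [pow_one] at hx; rw [hx, one_pow]
    · exact hx
  rw [← hs]
  calc s = s ^ 3 * (s ^ 2)⁻¹ := by group
    _ = 1 := by rw [h3, h2, inv_one, mul_one]

end Cfsg.Agent.Fi23Mult
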