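import Cfsg.Agent.Fi23Centralizer.Main
import Cfsg.Agent.CosetCert.Chain

/-!
# Lifts of the presentation of Fi23 to a central extension

In any central extension the generators lift to involutions that satisfy the Coxeter relations and
`(abcdefh)^9 = 1`, and then `(bcdefgh)^9` commutes exactly with `i`.
-/

set_option autoImplicit false
set_option maxRecDepth 100000
set_option maxHeartbeats 2000000

namespace Cfsg.Agent.Fi23Mult

open Cfsg.Spor Cfsg.Agent.CosetCert
open Cfsg.Agent.Fi23Centralizer (rels23)

/-- The generators of Fi23 in a fixed order. -/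
def genList : List Fi23.Gen := [.a, .b, .c, .d, .e, .f, .g, .j, .h, .i]

theorem mem_genList (x : Fi23.Gen) : x ∈ genList := by cases x <;> decide

/-- The label of two generators. -/
abbrev lab (x y : Fi23.Gen) : ℕ := coxLabel Fi23.edges x y

/-- The letters of the E7-type Coxeter element. -/
def AS : List Fi23.Gen := [.a, .b, .c, .d, .e, .f, .h]
/-- The letters of the Coxeter element behind the central involution. -/
def US : List Fi23.Gen := [.b, .c, .d, .e, .f, .g, .h]
/-- The spider. -/
def SS : List Fi23.Gen := [.d, .c, .b, .d, .e, .f, .d, .h, .i]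

/-- A positive word. -/
def sgn {β : Type*} (l : List β) : List (β × Bool) := l.map fun x => (x, true)

/-- The word `(abcdefh)^9`. -/
def AW : List Fi23.Gen := (List.replicate 9 AS).flatten
/-- The word `(bcdefgh)^9`. -/
def UW : List Fi23.Gen := (List.replicate 9 US).flatten
/-- The spider word. -/
def SW : List Fi23.Gen := (List.replicate 10 SS).flatten

theorem mk_sgn {β : Type*} {M : Type*} [Group M] (f : FreeGroup β →* M) (l : List β) :
    f (FreeGroup.mk (sgn l)) = (l.map fun x => f (FreeGroup.of x)).prod := by
  induction l with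
  | nil => exact map_one f
  | cons x l ih =>
    rw [List.map_cons, List.prod_cons, ← ih, ← map_mul, FreeGroup.of, FreeGroup.mul_mk]
    rfl

theorem G_rel (x y : Fi23.Gen) :
    ((PresentedGroup.of x : Fi23) * PresentedGroup.of y) ^ lab x y = 1 := by
  have h : ∀ x : Fi23.Gen, x ∈ coxNodes Fi23.edges := fun x => by cases x <;> decide +kernel
  exact PresentedGroup.one_of_mem (rels := rels23)
    (x := (FreeGroup.of x * FreeGroup.of y) ^ coxLabel Fi23.edges x y)
    (Or.inl ⟨x, h x, y, h y, rfl⟩)

theorem lab_self (x : Fi23.Gen) : lab x x = 1 := by simp [lab, coxLabel]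

theorem G_sq (x : Fi23.Gen) : (PresentedGroup.of x : Fi23) * PresentedGroup.of x = 1 := by
  have := G_rel x x
  rwa [lab_self, pow_one] at this

theorem G_braid {x y : Fi23.Gen} (h : lab x y = 3) :
    (PresentedGroup.of x : Fi23) * PresentedGroup.of y * PresentedGroup.of x =
      PresentedGroup.of y * PresentedGroup.of x * PresentedGroup.of y := by
  have h3 := G_rel x y
  rw [h] at h3
  have hx := G_sq x
  have hy := G_sq y
  generalize (PresentedGroup.of x : Fi23) = a at *
  generalize (PresentedGroup.of y : Fi23) = b at *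
  calc a * b * a = (a * b) ^ 3 * (b * a * b) := by
        rw [pow_succ, pow_succ, pow_one]
        simp only [mul_assoc]
        rw [← mul_assoc b b, hy, one_mul, ← mul_assoc a a (b), hx, one_mul, hy, mul_one]
    _ = b * a * b := by rw [h3, one_mul]

theorem G_comm {x y : Fi23.Gen} (h : lab x y = 2) :
    (PresentedGroup.of x : Fi23) * PresentedGroup.of y =
      PresentedGroup.of y * PresentedGroup.of x := by
  have h2 := G_rel x y
  rw [h] at h2
  have hx := G_sq x
  have hy := G_sq y
  generalize (PresentedGroup.of x : Fi23) = a at *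
  generalize (PresentedGroup.of y : Fi23) = b at *
  calc a * b = (a * b) ^ 2 * (b * a) := by
        rw [pow_two]
        simp only [mul_assoc]
        rw [← mul_assoc b b, hy, one_mul, hx, mul_one]
    _ = b * a := by rw [h2, one_mul]

theorem G_word_A : (PresentedGroup.mk rels23 (FreeGroup.mk (sgn AW)) : Fi23) = 1 :=
  PresentedGroup.one_of_mem (Or.inr (by
    show FreeGroup.mk (sgn AW) ∈ Fi23.extra
    decide +kernel))

theorem G_word_S : (PresentedGroup.mk rels23 (FreeGroup.mk (sgn SW)) : Fi23) = 1 :=
  PresentedGroup.one_of_mem (Or.inr (by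
    show FreeGroup.mk (sgn SW) ∈ Fi23.extra
    decide +kernel))

theorem zList_eq : sgn UW = Fi23Centralizer.zList := by decide +kernel

theorem G_word_U {x : Fi23.Gen} (hx : x ≠ .j) :
    Commute (PresentedGroup.mk rels23 (FreeGroup.mk (sgn UW)) : Fi23) (PresentedGroup.of x) := by
  have h : ∃ x' : Fi22.Gen, Fi23Centralizer.toGen x' = x := by
    cases x <;> first | exact absurd rfl hx | exact ⟨.a, rfl⟩ | exact ⟨.b, rfl⟩ | exact ⟨.c, rfl⟩ |
      exact ⟨.d, rfl⟩ | exact ⟨.e, rfl⟩ | exact ⟨.f, rfl⟩ | exact ⟨.g, rfl⟩ | exact ⟨.h, rfl⟩ |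
      exact ⟨.i, rfl⟩
  obtain ⟨x', rfl⟩ := h
  rw [zList_eq]
  exact Fi23Centralizer.z_commute x'

section scalar

variable {Γ : Type*} [Group Γ]

/-- `g` and `h` commute up to the central factor `k`. -/
def Q (g h k : Γ) : Prop := k ∈ Subgroup.center Γ ∧ g * h = k * (h * g)

theorem central {k : Γ} (hk : k ∈ Subgroup.center Γ) (g : Γ) : k * g = g * k :=
  (Subgroup.mem_center_iff.1 hk g).symm

theorem Q.mul {g y q k k' : Γ} (h1 : Q g y k) (h2 : Q g q k') : Q g (y * q) (k * k') := by
  refine ⟨mul_mem h1.1 h2.1, ?_⟩
  calc g * (y * q) = k * (y * g) * q := by rw [← mul_assoc, h1.2]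
    _ = k * (y * (g * q)) := by simp only [mul_assoc]
    _ = k * ((y * k') * (q * g)) := by rw [h2.2]; simp only [mul_assoc]
    _ = k * k' * (y * q * g) := by rw [← central h2.1 y]; simp only [mul_assoc]

theorem Q.unique {g h k k' : Γ} (h1 : Q g h k) (h2 : Q g h k') : k = k' :=
  mul_right_cancel (h1.2.symm.trans h2.2)

theorem Q.of_central (g : Γ) {h : Γ} (hh : h ∈ Subgroup.center Γ) : Q g h 1 :=
  ⟨one_mem _, by rw [one_mul, central hh]⟩

theorem Q.prod {ι : Type*} {g k : Γ} (f : ι → Γ) (l : List ι) (h : ∀ y ∈ l, Q g (f y) k) :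
    Q g (l.map f).prod (k ^ l.length) := by
  induction l with
  | nil => simpa using Q.of_central g (one_mem (Subgroup.center Γ))
  | cons x l ih =>
    rw [List.map_cons, List.prod_cons, List.length_cons, pow_succ']
    exact (h x List.mem_cons_self).mul (ih fun y hy => h y (List.mem_cons_of_mem _ hy))

theorem Q.sq {g y k : Γ} (h : Q g y k) (hy : y * y ∈ Subgroup.center Γ) : k * k = 1 :=
  (h.mul h).unique (Q.of_central g hy)

theorem Q.braid {g y w k k' : Γ} (h1 : Q g y k) (h2 : Q g w k')
    (hb : y * w * y = w * y * w) : k = k' := by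
  have e : k * k' * k = k' * k * k' := (hb ▸ (h1.mul h2).mul h1).unique ((h2.mul h1).mul h2)
  rw [central h2.1 k] at e
  exact mul_left_cancel e

theorem Q.ex (g h : Γ) (hk : g * h * (h * g)⁻¹ ∈ Subgroup.center Γ) :
    Q g h (g * h * (h * g)⁻¹) := ⟨hk, (inv_mul_cancel_right _ _).symm⟩

theorem eq_one_of_odd {k : Γ} (h2 : k * k = 1) (h63 : k ^ 63 = 1) : k = 1 := by
  rwa [show 63 = 2 * 31 + 1 from rfl, pow_succ, pow_mul, pow_two, h2, one_pow, one_mul] at h63

/-- Lift of a positive word raised to the ninth power. -/
def pw (L : Fi23.Gen → Γ) (l : List Fi23.Gen) : Γ := ((l.map L).prod) ^ 9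

theorem pw_eq (L : Fi23.Gen → Γ) (l : List Fi23.Gen) :
    pw L l = (((List.replicate 9 l).flatten).map L).prod := by
  have h : ∀ n, (((List.replicate n l).flatten).map L).prod = (l.map L).prod ^ n := fun n => by
    induction n with
    | zero => simp
    | succ n ih =>
      rw [List.replicate_succ, List.flatten_cons, List.map_append, List.prod_append, ih, pow_succ']
  exact (h 9).symm

theorem rot {L : Fi23.Gen → Γ} {R : List Fi23.Gen} (hc : pw L R ∈ Subgroup.center Γ)
    {x : Fi23.Gen} {l : List Fi23.Gen} (h : pw L (x :: l) = pw L R) :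
    pw L (l ++ [x]) = pw L R := by
  have e : pw L (l ++ [x]) = (L x)⁻¹ * pw L (x :: l) * L x := by
    simp only [pw, List.map_append, List.prod_append, List.map_cons, List.map_nil, List.prod_cons,
      List.prod_nil, mul_one]
    have := conj_pow (a := (L x)⁻¹) (b := L x * (l.map L).prod) (i := 9)
    rw [inv_inv] at this
    rw [← this]
    simp
  rw [e, h, mul_assoc, central hc, inv_mul_cancel_left]

/-- Two lifts commute. -/
abbrev Com (L : Fi23.Gen → Γ) (x y : Fi23.Gen) : Prop := Commute (L x) (L y)

theorem swap {L : Fi23.Gen → Γ} {R : List Fi23.Gen}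
    (hcom : ∀ x y, lab x y = 2 → Com L x y) {x y : Fi23.Gen} {p q : List Fi23.Gen}
    (hxy : lab x y = 2) (h : pw L (p ++ x :: y :: q) = pw L R) :
    pw L (p ++ y :: x :: q) = pw L R := by
  rw [← h]
  simp only [pw, List.map_append, List.prod_append, List.map_cons, List.prod_cons]
  rw [← mul_assoc (L y), ← (hcom x y hxy).eq, mul_assoc]

theorem prod_rev {L : Fi23.Gen → Γ} {z : Γ} (hz : z ∈ Subgroup.center Γ)
    (hsq : ∀ x, L x * L x = z) (l : List Fi23.Gen) :
    (l.map L).prod * (l.reverse.map L).prod = z ^ l.length := by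
  induction l with
  | nil => simp
  | cons x l ih =>
    rw [List.reverse_cons, List.map_append, List.prod_append, List.map_cons, List.prod_cons,
      List.length_cons, List.map_singleton, List.prod_singleton]
    calc L x * (l.map L).prod * ((l.reverse.map L).prod * L x)
        = L x * ((l.map L).prod * (l.reverse.map L).prod) * L x := by simp only [mul_assoc]
      _ = z ^ l.length * (L x * L x) := by
        rw [ih, ← central (pow_mem hz _) (L x), mul_assoc]
      _ = z ^ (l.length + 1) := by rw [hsq, pow_succ]

theorem prod_mul_central {L : Fi23.Gen → Γ} {c : Γ} (hc : c ∈ Subgroup.center Γ)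
    (l : List Fi23.Gen) : (l.map fun x => L x * c).prod = (l.map L).prod * c ^ l.length := by
  induction l with
  | nil => simp
  | cons x l ih =>
    rw [List.map_cons, List.prod_cons, ih, List.map_cons, List.prod_cons, List.length_cons,
      pow_succ']
    calc L x * c * ((l.map L).prod * c ^ l.length)
        = L x * (c * (l.map L).prod) * c ^ l.length := by simp only [mul_assoc]
      _ = L x * (l.map L).prod * (c * c ^ l.length) := by
        rw [central hc]; simp only [mul_assoc]

variable (σ : Γ →* Fi23)

theorem sigma_prod {L : Fi23.Gen → Γ} (hsigma : ∀ x, σ (L x) = PresentedGroup.of x)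
    (l : List Fi23.Gen) :
    σ (l.map L).prod = PresentedGroup.mk rels23 (FreeGroup.mk (sgn l)) := by
  rw [mk_sgn, map_list_prod, List.map_map]
  exact congrArg List.prod (List.map_congr_left fun x _ => hsigma x)

variable {σ}

theorem adjust (hs : Function.Surjective σ) (hk : σ.ker ≤ Subgroup.center Γ) {x : Γ}
    {a b : Fi23.Gen} (hx : σ x = PresentedGroup.of a) (hab : lab a b = 3) :
    ∃ y, σ y = PresentedGroup.of b ∧ x * y * x = y * x * y := by
  obtain ⟨y, hy⟩ := hs (PresentedGroup.of b)
  have hker : (y * x * y)⁻¹ * (x * y * x) ∈ σ.ker := by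
    rw [MonoidHom.mem_ker]
    simp only [map_mul, map_inv, hx, hy]
    rw [G_braid hab, inv_mul_cancel]
  obtain ⟨k, hkdef⟩ : ∃ k, k = (y * x * y)⁻¹ * (x * y * x) := ⟨_, rfl⟩
  rw [← hkdef] at hker
  refine ⟨y * k, by rw [map_mul, hy, MonoidHom.mem_ker.1 hker, mul_one], ?_⟩
  have hkc : ∀ g, k * g = g * k := central (hk hker)
  calc x * (y * k) * x = x * y * (k * x) := by simp only [mul_assoc]
    _ = x * y * x * k := by rw [hkc]; simp only [mul_assoc]
    _ = y * x * y * k * k := by rw [hkdef, mul_inv_cancel_left]
    _ = y * (k * (x * y)) * k := by rw [hkc (x * y)]; simp only [mul_assoc]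
    _ = y * k * x * (y * k) := by simp only [mul_assoc]

variable {L : Fi23.Gen → Γ}

theorem exists_Q (hk : σ.ker ≤ Subgroup.center Γ)
    {g : Γ} {y : Fi23.Gen} (hsigma : ∀ x, σ (L x) = PresentedGroup.of x)
    (h : Commute (σ g) (PresentedGroup.of y)) : ∃ k, Q g (L y) k := by
  refine ⟨_, Q.ex g (L y) (hk ?_)⟩
  rw [MonoidHom.mem_ker]
  simp only [map_mul, map_inv, hsigma]
  rw [h.eq, mul_inv_cancel]

theorem com_step (ho : σ.ker ≤ Subgroup.center Γ) (hsigma : ∀ x, σ (L x) = PresentedGroup.of x)
    (hb : ∀ x y, lab x y = 3 → L x * L y * L x = L y * L x * L y)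
    {x y w : Fi23.Gen}
    (hyw : lab y w = 3) (hxy : lab x y = 2) (hxw : lab x w = 2) (h : Com L x y) : Com L x w := by
  obtain ⟨k, hk⟩ := exists_Q ho (g := L x) (y := y) hsigma (by rw [hsigma]; exact G_comm hxy)
  obtain ⟨k', hk'⟩ := exists_Q ho (g := L x) (y := w) hsigma (by rw [hsigma]; exact G_comm hxw)
  have h1 : k = 1 := hk.unique ⟨one_mem _, by rw [one_mul]; exact h.eq⟩
  have h2 : k' = 1 := (hk.braid hk' (hb y w hyw)).symm.trans h1
  show L x * L w = L w * L x
  rw [hk'.2, h2, one_mul]

/-- The Coxeter relations hold for suitable lifts, and so does `(abcdefh)^9 = 1`. -/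
theorem exists_lift (hs : Function.Surjective σ) (ho : σ.ker ≤ Subgroup.center Γ) :
    ∃ L : Fi23.Gen → Γ, (∀ x, σ (L x) = PresentedGroup.of x) ∧
      (∀ x y, (L x * L y) ^ lab x y = 1) ∧ (AW.map L).prod = 1 := by
  obtain ⟨la, ha⟩ := hs (PresentedGroup.of Fi23.Gen.a)
  obtain ⟨lb, hlb, bab⟩ := adjust hs ho ha (b := .b) (by decide +kernel)
  obtain ⟨lc, hlc, bbc⟩ := adjust hs ho hlb (b := .c) (by decide +kernel)
  obtain ⟨ld, hld, bcd⟩ := adjust hs ho hlc (b := .d) (by decide +kernel)
  obtain ⟨le, hle, bde⟩ := adjust hs ho hld (b := .e) (by decide +kernel)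
  obtain ⟨lf, hlf, bef⟩ := adjust hs ho hle (b := .f) (by decide +kernel)
  obtain ⟨lg, hlg, bfg⟩ := adjust hs ho hlf (b := .g) (by decide +kernel)
  obtain ⟨lj, hlj, bgj⟩ := adjust hs ho hlg (b := .j) (by decide +kernel)
  obtain ⟨lh, hlh, bdh⟩ := adjust hs ho hld (b := .h) (by decide +kernel)
  obtain ⟨li, hli, bhi⟩ := adjust hs ho hlh (b := .i) (by decide +kernel)
  obtain ⟨L, hsigma, hb⟩ : ∃ L : Fi23.Gen → Γ, (∀ x, σ (L x) = PresentedGroup.of x) ∧
      ∀ x y, lab x y = 3 → L x * L y * L x = L y * L x * L y := by
    refine ⟨fun x => match x with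
      | .a => la | .b => lb | .c => lc | .d => ld | .e => le
      | .f => lf | .g => lg | .j => lj | .h => lh | .i => li, fun x => by cases x <;> assumption,
      fun x y h => ?_⟩
    cases x <;> cases y <;> first
      | exact absurd h (by decide +kernel)
      | assumption
      | exact bab.symm | exact bbc.symm | exact bcd.symm | exact bde.symm | exact bef.symm
      | exact bfg.symm | exact bgj.symm | exact bdh.symm | exact bhi.symm
  have hcen : ∀ x, L x * L x ∈ Subgroup.center Γ := fun x => ho (by
    rw [MonoidHom.mem_ker, map_mul, hsigma, G_sq])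
  have hsq : ∀ x y, lab x y = 3 → L y * L y = L x * L x := by
    intro x y h
    have e : L x * L y * L x = L y * (L x * L y) := by rw [hb x y h, mul_assoc]
    have e2 : L y * L y * (L x * L y) = L x * L y * (L x * L x) := by
      calc L y * L y * (L x * L y) = L y * (L x * L y * L x) := by rw [e, mul_assoc]
        _ = L y * (L x * L y) * L x := by simp only [mul_assoc]
        _ = L x * L y * (L x * L x) := by rw [← e]; simp only [mul_assoc]
    rw [central (hcen y)] at e2
    exact mul_left_cancel e2
  obtain ⟨z, hzdef⟩ : ∃ z, z = L .a * L .a := ⟨_, rfl⟩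
  have hz : ∀ x, L x * L x = z := by
    have hzb : L .b * L .b = z := (hsq .a .b (by decide +kernel)).trans hzdef.symm
    have hzc : L .c * L .c = z := (hsq .b .c (by decide +kernel)).trans hzb
    have hzd : L .d * L .d = z := (hsq .c .d (by decide +kernel)).trans hzc
    have hze : L .e * L .e = z := (hsq .d .e (by decide +kernel)).trans hzd
    have hzf : L .f * L .f = z := (hsq .e .f (by decide +kernel)).trans hze
    have hzg : L .g * L .g = z := (hsq .f .g (by decide +kernel)).trans hzf
    have hzj : L .j * L .j = z := (hsq .g .j (by decide +kernel)).trans hzg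
    have hzh : L .h * L .h = z := (hsq .d .h (by decide +kernel)).trans hzd
    have hzi : L .i * L .i = z := (hsq .h .i (by decide +kernel)).trans hzh
    intro x; cases x <;> first | assumption | exact hzdef.symm
  have hzc : z ∈ Subgroup.center Γ := hzdef ▸ hcen .a
  have hAker : (AW.map L).prod ∈ σ.ker := by
    rw [MonoidHom.mem_ker, sigma_prod σ hsigma, G_word_A]
  -- `j` commutes with the lifts away from `g`
  have hj : ∀ y, lab .j y = 2 → Com L .j y := by
    have hq : ∀ y, lab .j y = 2 → ∃ k, Q (L .j) (L y) k := fun y hy =>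
      exists_Q ho hsigma (by rw [hsigma]; exact G_comm hy)
    obtain ⟨k, hk⟩ := hq .d (by decide +kernel)
    have step : ∀ y w, lab y w = 3 → lab .j w = 2 → Q (L .j) (L y) k → Q (L .j) (L w) k := by
      intro y w hyw hw hy
      obtain ⟨k', hk'⟩ := hq w hw
      rwa [hy.braid hk' (hb y w hyw)]
    have kc := step .d .c (by decide +kernel) (by decide +kernel) hk
    have kb := step .c .b (by decide +kernel) (by decide +kernel) kc
    have ka := step .b .a (by decide +kernel) (by decide +kernel) kb
    have ke := step .d .e (by decide +kernel) (by decide +kernel) hk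
    have kf := step .e .f (by decide +kernel) (by decide +kernel) ke
    have kh := step .d .h (by decide +kernel) (by decide +kernel) hk
    have ki := step .h .i (by decide +kernel) (by decide +kernel) kh
    have hall : ∀ y, lab .j y = 2 → Q (L .j) (L y) k := fun y hy => by
      cases y <;> first | exact absurd hy (by decide +kernel) | assumption
    have hAll : ∀ y ∈ AW, lab .j y = 2 := by decide +kernel
    have h63 := (Q.prod (g := L .j) L AW fun y hy => hall y (hAll y hy)).unique
      (Q.of_central _ (ho hAker))
    have hk1 : k = 1 := eq_one_of_odd (hk.sq (hcen _)) (by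
      rwa [show AW.length = 63 from rfl] at h63)
    intro y hy
    show L .j * L y = L y * L .j
    rw [(hall y hy).2, hk1, one_mul]
  have cja : Com L .j .a := hj _ (by decide +kernel)
  have cjb : Com L .j .b := hj _ (by decide +kernel)
  have cjc : Com L .j .c := hj _ (by decide +kernel)
  have cjd : Com L .j .d := hj _ (by decide +kernel)
  have cje : Com L .j .e := hj _ (by decide +kernel)
  have cjf : Com L .j .f := hj _ (by decide +kernel)
  have cjh : Com L .j .h := hj _ (by decide +kernel)
  have cji : Com L .j .i := hj _ (by decide +kernel)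
  have caj : Com L .a .j := cja.symm
  have cbj : Com L .b .j := cjb.symm
  have ccj : Com L .c .j := cjc.symm
  have cdj : Com L .d .j := cjd.symm
  have cej : Com L .e .j := cje.symm
  have cfj : Com L .f .j := cjf.symm
  have chj : Com L .h .j := cjh.symm
  have cij : Com L .i .j := cji.symm
  have cag : Com L .a .g := com_step ho hsigma hb (by decide +kernel) (by decide +kernel) (by decide +kernel) caj
  have cbg : Com L .b .g := com_step ho hsigma hb (by decide +kernel) (by decide +kernel) (by decide +kernel) cbj
  have ccg : Com L .c .g := com_step ho hsigma hb (by decide +kernel) (by decide +kernel) (by decide +kernel) ccj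
  have cdg : Com L .d .g := com_step ho hsigma hb (by decide +kernel) (by decide +kernel) (by decide +kernel) cdj
  have ceg : Com L .e .g := com_step ho hsigma hb (by decide +kernel) (by decide +kernel) (by decide +kernel) cej
  have chg : Com L .h .g := com_step ho hsigma hb (by decide +kernel) (by decide +kernel) (by decide +kernel) chj
  have cig : Com L .i .g := com_step ho hsigma hb (by decide +kernel) (by decide +kernel) (by decide +kernel) cij
  have cga : Com L .g .a := cag.symm
  have cgb : Com L .g .b := cbg.symm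
  have cgc : Com L .g .c := ccg.symm
  have cgd : Com L .g .d := cdg.symm
  have cge : Com L .g .e := ceg.symm
  have cgh : Com L .g .h := chg.symm
  have cgi : Com L .g .i := cig.symm
  have caf : Com L .a .f := com_step ho hsigma hb (by decide +kernel) (by decide +kernel) (by decide +kernel) cag
  have cbf : Com L .b .f := com_step ho hsigma hb (by decide +kernel) (by decide +kernel) (by decide +kernel) cbg
  have ccf : Com L .c .f := com_step ho hsigma hb (by decide +kernel) (by decide +kernel) (by decide +kernel) ccg
  have cdf : Com L .d .f := com_step ho hsigma hb (by decide +kernel) (by decide +kernel) (by decide +kernel) cdg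
  have chf : Com L .h .f := com_step ho hsigma hb (by decide +kernel) (by decide +kernel) (by decide +kernel) chg
  have cif : Com L .i .f := com_step ho hsigma hb (by decide +kernel) (by decide +kernel) (by decide +kernel) cig
  have cfa : Com L .f .a := caf.symm
  have cfb : Com L .f .b := cbf.symm
  have cfc : Com L .f .c := ccf.symm
  have cfd : Com L .f .d := cdf.symm
  have cfh : Com L .f .h := chf.symm
  have cfi : Com L .f .i := cif.symm
  have cae : Com L .a .e := com_step ho hsigma hb (by decide +kernel) (by decide +kernel) (by decide +kernel) caf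
  have cbe : Com L .b .e := com_step ho hsigma hb (by decide +kernel) (by decide +kernel) (by decide +kernel) cbf
  have cce : Com L .c .e := com_step ho hsigma hb (by decide +kernel) (by decide +kernel) (by decide +kernel) ccf
  have che : Com L .h .e := com_step ho hsigma hb (by decide +kernel) (by decide +kernel) (by decide +kernel) chf
  have cie : Com L .i .e := com_step ho hsigma hb (by decide +kernel) (by decide +kernel) (by decide +kernel) cif
  have cea : Com L .e .a := cae.symm
  have ceb : Com L .e .b := cbe.symm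
  have cec : Com L .e .c := cce.symm
  have ceh : Com L .e .h := che.symm
  have cei : Com L .e .i := cie.symm
  have cad : Com L .a .d := com_step ho hsigma hb (by decide +kernel) (by decide +kernel) (by decide +kernel) cae
  have cbd : Com L .b .d := com_step ho hsigma hb (by decide +kernel) (by decide +kernel) (by decide +kernel) cbe
  have cid : Com L .i .d := com_step ho hsigma hb (by decide +kernel) (by decide +kernel) (by decide +kernel) cie
  have cda : Com L .d .a := cad.symm
  have cdb : Com L .d .b := cbd.symm
  have cdi : Com L .d .i := cid.symm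
  have cac : Com L .a .c := com_step ho hsigma hb (by decide +kernel) (by decide +kernel) (by decide +kernel) cad
  have cah : Com L .a .h := com_step ho hsigma hb (by decide +kernel) (by decide +kernel) (by decide +kernel) cad
  have cbh : Com L .b .h := com_step ho hsigma hb (by decide +kernel) (by decide +kernel) (by decide +kernel) cbd
  have cic : Com L .i .c := com_step ho hsigma hb (by decide +kernel) (by decide +kernel) (by decide +kernel) cid
  have cca : Com L .c .a := cac.symm
  have cha : Com L .h .a := cah.symm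
  have chb : Com L .h .b := cbh.symm
  have cci : Com L .c .i := cic.symm
  have cai : Com L .a .i := com_step ho hsigma hb (by decide +kernel) (by decide +kernel) (by decide +kernel) cah
  have cbi : Com L .b .i := com_step ho hsigma hb (by decide +kernel) (by decide +kernel) (by decide +kernel) cbh
  have cch : Com L .c .h := com_step ho hsigma hb (by decide +kernel) (by decide +kernel) (by decide +kernel) cci
  have chc : Com L .h .c := com_step ho hsigma hb (by decide +kernel) (by decide +kernel) (by decide +kernel) chb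
  have cib : Com L .i .b := com_step ho hsigma hb (by decide +kernel) (by decide +kernel) (by decide +kernel) cic
  have cia : Com L .i .a := cai.symm
  have hcom : ∀ x y, lab x y = 2 → Com L x y := by
    intro x y h
    cases x <;> cases y <;> first | assumption | exact absurd h (by decide +kernel)
  -- the value of `(abcdefh)^9`
  have hc : pw L AS ∈ Subgroup.center Γ := by rw [pw_eq]; exact ho hAker
  have hrev : pw L AS.reverse = pw L AS := by
    have h : pw L [.a, .b, .c, .d, .e, .f, .h] = pw L AS := rfl
    replace h : pw L [.b, .c, .d, .e, .f, .h, .a] = pw L AS := rot hc (l := [.b, .c, .d, .e, .f, .h]) h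
    replace h : pw L [.c, .d, .e, .f, .h, .a, .b] = pw L AS := rot hc (l := [.c, .d, .e, .f, .h, .a]) h
    replace h : pw L [.d, .e, .f, .h, .a, .b, .c] = pw L AS := rot hc (l := [.d, .e, .f, .h, .a, .b]) h
    replace h : pw L [.e, .f, .h, .a, .b, .c, .d] = pw L AS := rot hc (l := [.e, .f, .h, .a, .b, .c]) h
    replace h : pw L [.f, .h, .a, .b, .c, .d, .e] = pw L AS := rot hc (l := [.f, .h, .a, .b, .c, .d]) h
    replace h : pw L [.h, .f, .a, .b, .c, .d, .e] = pw L AS := swap hcom (p := []) (q := [.a, .b, .c, .d, .e]) (by decide +kernel) h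
    replace h : pw L [.f, .a, .b, .c, .d, .e, .h] = pw L AS := rot hc (l := [.f, .a, .b, .c, .d, .e]) h
    replace h : pw L [.a, .f, .b, .c, .d, .e, .h] = pw L AS := swap hcom (p := []) (q := [.b, .c, .d, .e, .h]) (by decide +kernel) h
    replace h : pw L [.f, .b, .c, .d, .e, .h, .a] = pw L AS := rot hc (l := [.f, .b, .c, .d, .e, .h]) h
    replace h : pw L [.b, .f, .c, .d, .e, .h, .a] = pw L AS := swap hcom (p := []) (q := [.c, .d, .e, .h, .a]) (by decide +kernel) h
    replace h : pw L [.f, .c, .d, .e, .h, .a, .b] = pw L AS := rot hc (l := [.f, .c, .d, .e, .h, .a]) h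
    replace h : pw L [.c, .f, .d, .e, .h, .a, .b] = pw L AS := swap hcom (p := []) (q := [.d, .e, .h, .a, .b]) (by decide +kernel) h
    replace h : pw L [.f, .d, .e, .h, .a, .b, .c] = pw L AS := rot hc (l := [.f, .d, .e, .h, .a, .b]) h
    replace h : pw L [.d, .f, .e, .h, .a, .b, .c] = pw L AS := swap hcom (p := []) (q := [.e, .h, .a, .b, .c]) (by decide +kernel) h
    replace h : pw L [.f, .e, .h, .a, .b, .c, .d] = pw L AS := rot hc (l := [.f, .e, .h, .a, .b, .c]) h
    replace h : pw L [.f, .h, .e, .a, .b, .c, .d] = pw L AS := swap hcom (p := [.f]) (q := [.a, .b, .c, .d]) (by decide +kernel) h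
    replace h : pw L [.h, .f, .e, .a, .b, .c, .d] = pw L AS := swap hcom (p := []) (q := [.e, .a, .b, .c, .d]) (by decide +kernel) h
    replace h : pw L [.h, .f, .a, .e, .b, .c, .d] = pw L AS := swap hcom (p := [.h, .f]) (q := [.b, .c, .d]) (by decide +kernel) h
    replace h : pw L [.h, .a, .f, .e, .b, .c, .d] = pw L AS := swap hcom (p := [.h]) (q := [.e, .b, .c, .d]) (by decide +kernel) h
    replace h : pw L [.a, .h, .f, .e, .b, .c, .d] = pw L AS := swap hcom (p := []) (q := [.f, .e, .b, .c, .d]) (by decide +kernel) h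
    replace h : pw L [.h, .f, .e, .b, .c, .d, .a] = pw L AS := rot hc (l := [.h, .f, .e, .b, .c, .d]) h
    replace h : pw L [.h, .f, .b, .e, .c, .d, .a] = pw L AS := swap hcom (p := [.h, .f]) (q := [.c, .d, .a]) (by decide +kernel) h
    replace h : pw L [.h, .b, .f, .e, .c, .d, .a] = pw L AS := swap hcom (p := [.h]) (q := [.e, .c, .d, .a]) (by decide +kernel) h
    replace h : pw L [.b, .h, .f, .e, .c, .d, .a] = pw L AS := swap hcom (p := []) (q := [.f, .e, .c, .d, .a]) (by decide +kernel) h
    replace h : pw L [.h, .f, .e, .c, .d, .a, .b] = pw L AS := rot hc (l := [.h, .f, .e, .c, .d, .a]) h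
    replace h : pw L [.h, .f, .c, .e, .d, .a, .b] = pw L AS := swap hcom (p := [.h, .f]) (q := [.d, .a, .b]) (by decide +kernel) h
    replace h : pw L [.h, .c, .f, .e, .d, .a, .b] = pw L AS := swap hcom (p := [.h]) (q := [.e, .d, .a, .b]) (by decide +kernel) h
    replace h : pw L [.c, .h, .f, .e, .d, .a, .b] = pw L AS := swap hcom (p := []) (q := [.f, .e, .d, .a, .b]) (by decide +kernel) h
    replace h : pw L [.h, .f, .e, .d, .a, .b, .c] = pw L AS := rot hc (l := [.h, .f, .e, .d, .a, .b]) h
    replace h : pw L [.h, .f, .e, .a, .d, .b, .c] = pw L AS := swap hcom (p := [.h, .f, .e]) (q := [.b, .c]) (by decide +kernel) h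
    replace h : pw L [.h, .f, .a, .e, .d, .b, .c] = pw L AS := swap hcom (p := [.h, .f]) (q := [.d, .b, .c]) (by decide +kernel) h
    replace h : pw L [.h, .a, .f, .e, .d, .b, .c] = pw L AS := swap hcom (p := [.h]) (q := [.e, .d, .b, .c]) (by decide +kernel) h
    replace h : pw L [.a, .h, .f, .e, .d, .b, .c] = pw L AS := swap hcom (p := []) (q := [.f, .e, .d, .b, .c]) (by decide +kernel) h
    replace h : pw L [.h, .f, .e, .d, .b, .c, .a] = pw L AS := rot hc (l := [.h, .f, .e, .d, .b, .c]) h
    replace h : pw L [.h, .f, .e, .b, .d, .c, .a] = pw L AS := swap hcom (p := [.h, .f, .e]) (q := [.c, .a]) (by decide +kernel) h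
    replace h : pw L [.h, .f, .b, .e, .d, .c, .a] = pw L AS := swap hcom (p := [.h, .f]) (q := [.d, .c, .a]) (by decide +kernel) h
    replace h : pw L [.h, .b, .f, .e, .d, .c, .a] = pw L AS := swap hcom (p := [.h]) (q := [.e, .d, .c, .a]) (by decide +kernel) h
    replace h : pw L [.b, .h, .f, .e, .d, .c, .a] = pw L AS := swap hcom (p := []) (q := [.f, .e, .d, .c, .a]) (by decide +kernel) h
    replace h : pw L [.h, .f, .e, .d, .c, .a, .b] = pw L AS := rot hc (l := [.h, .f, .e, .d, .c, .a]) h
    replace h : pw L [.h, .f, .e, .d, .a, .c, .b] = pw L AS := swap hcom (p := [.h, .f, .e, .d]) (q := [.b]) (by decide +kernel) h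
    replace h : pw L [.h, .f, .e, .a, .d, .c, .b] = pw L AS := swap hcom (p := [.h, .f, .e]) (q := [.c, .b]) (by decide +kernel) h
    replace h : pw L [.h, .f, .a, .e, .d, .c, .b] = pw L AS := swap hcom (p := [.h, .f]) (q := [.d, .c, .b]) (by decide +kernel) h
    replace h : pw L [.h, .a, .f, .e, .d, .c, .b] = pw L AS := swap hcom (p := [.h]) (q := [.e, .d, .c, .b]) (by decide +kernel) h
    replace h : pw L [.a, .h, .f, .e, .d, .c, .b] = pw L AS := swap hcom (p := []) (q := [.f, .e, .d, .c, .b]) (by decide +kernel) h
    replace h : pw L [.h, .f, .e, .d, .c, .b, .a] = pw L AS := rot hc (l := [.h, .f, .e, .d, .c, .b]) h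
    exact h
  have ht : pw L AS * pw L AS = z ^ 63 := by
    nth_rw 2 [← hrev]
    have hP := prod_rev hzc hz AS
    have hP' : (AS.reverse.map L).prod = ((AS.map L).prod)⁻¹ * z ^ 7 := eq_inv_mul_of_mul_eq hP
    rw [pw, pw, hP', Commute.mul_pow (Subgroup.mem_center_iff.1 (pow_mem hzc 7) _),
      inv_pow, mul_inv_cancel_left, ← pow_mul]
  obtain ⟨t, htdef⟩ : ∃ t, t = pw L AS := ⟨_, rfl⟩
  rw [← htdef] at hc ht
  have hcc : z ^ 31 * t⁻¹ ∈ Subgroup.center Γ := mul_mem (pow_mem hzc _) (inv_mem hc)
  obtain ⟨c, hcdef⟩ : ∃ c, c = z ^ 31 * t⁻¹ := ⟨_, rfl⟩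
  rw [← hcdef] at hcc
  have hzt : Commute (z ^ 31) t⁻¹ := central (pow_mem hzc _) _
  have hc2 : c * c = z⁻¹ := by
    rw [← pow_two, hcdef, hzt.mul_pow, ← pow_mul, inv_pow, pow_two, ht]
    group
  have hct : c ^ 63 = t⁻¹ := by
    rw [show 63 = 2 * 31 + 1 from rfl, pow_succ, pow_mul, pow_two, hc2, inv_pow, hcdef,
      inv_mul_cancel_left]
  let L' : Fi23.Gen → Γ := fun x => L x * c
  have hσc : σ c = 1 := by
    have hσz : σ z = 1 := by rw [hzdef, map_mul, hsigma, G_sq]
    have hσt : σ t = 1 := by rw [htdef, pw_eq]; exact MonoidHom.mem_ker.1 hAker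
    rw [hcdef, map_mul, map_pow, map_inv, hσz, hσt, one_pow, inv_one, mul_one]
  refine ⟨L', fun x => by simp [L', map_mul, hsigma, hσc], ?_, ?_⟩
  · have hsq1 : ∀ x, L' x * L' x = 1 := fun x => by
      show L x * c * (L x * c) = 1
      calc L x * c * (L x * c) = L x * (c * L x) * c := by simp only [mul_assoc]
        _ = L x * L x * (c * c) := by rw [central hcc (L x)]; simp only [mul_assoc]
        _ = 1 := by rw [hz, hc2, mul_inv_cancel]
    have mv : ∀ x y, L' x * L' y = L x * L y * (c * c) := fun x y => by
      show L x * c * (L y * c) = _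
      calc L x * c * (L y * c) = L x * (c * L y) * c := by simp only [mul_assoc]
        _ = _ := by rw [central hcc (L y)]; simp only [mul_assoc]
    have hl : ∀ x y, lab x y = 1 ∧ x = y ∨ lab x y = 2 ∨ lab x y = 3 := by
      intro x y; cases x <;> cases y <;> decide +kernel
    intro x y
    rcases hl x y with ⟨h, rfl⟩ | h | h
    · rw [h, pow_one, hsq1]
    · rw [h, pow_two]
      have e : L' x * L' y = L' y * L' x := by rw [mv, mv, (hcom x y h).eq]
      calc L' x * L' y * (L' x * L' y) = L' x * L' y * (L' y * L' x) := by rw [← e]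
        _ = L' x * (L' y * L' y) * L' x := by simp only [mul_assoc]
        _ = 1 := by rw [hsq1, mul_one, hsq1]
    · have e : L' x * L' y * L' x = L' y * L' x * L' y := by
        have step : ∀ u v, L' u * L' v * L' u = L u * L v * L u * (c * c * c) := fun u v => by
          rw [mv]
          show L u * L v * (c * c) * (L u * c) = _
          calc L u * L v * (c * c) * (L u * c) = L u * L v * ((c * c) * L u) * c := by
                simp only [mul_assoc]
            _ = _ := by rw [central (mul_mem hcc hcc) (L u)]; simp only [mul_assoc]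
        rw [step, step, hb x y h]
      rw [h, pow_succ, pow_two]
      calc L' x * L' y * (L' x * L' y) * (L' x * L' y)
          = L' x * L' y * L' x * (L' y * L' x * L' y) := by simp only [mul_assoc]
        _ = L' x * L' y * L' x * (L' x * L' y * L' x) := by rw [← e]
        _ = L' x * (L' y * (L' x * L' x) * L' y) * L' x := by simp only [mul_assoc]
        _ = 1 := by rw [hsq1, mul_one, hsq1, mul_one, hsq1]
  · rw [prod_mul_central hcc, ← show pw L AS = (AW.map L).prod from pw_eq L AS, ← htdef,
      show AW.length = 63 from rfl, hct, mul_inv_cancel]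

/-- For such lifts `(bcdefgh)^9` and `i` commute. -/
theorem lift_U_commute (ho : σ.ker ≤ Subgroup.center Γ)
    (hsigma : ∀ x, σ (L x) = PresentedGroup.of x) (hrel : ∀ x y, (L x * L y) ^ lab x y = 1) :
    Commute (UW.map L).prod (L .i) := by
  have hsq : ∀ x, L x * L x = 1 := fun x => by
    have := hrel x x; rwa [lab_self, pow_one] at this
  have hb : ∀ x y, lab x y = 3 → L x * L y * L x = L y * L x * L y := by
    intro x y h
    have h3 := hrel x y
    rw [h] at h3
    have hx := hsq x
    have hy := hsq y
    calc L x * L y * L x = (L x * L y) ^ 3 * (L y * L x * L y) := by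
          rw [pow_succ, pow_succ, pow_one]
          simp only [mul_assoc]
          rw [← mul_assoc (L y) (L y), hy, one_mul, ← mul_assoc (L x) (L x) (L y), hx, one_mul,
            hy, mul_one]
      _ = L y * L x * L y := by rw [h3, one_mul]
  obtain ⟨u, hudef⟩ : ∃ u, u = (UW.map L).prod := ⟨_, rfl⟩
  rw [← hudef]
  have hq : ∀ y, y ≠ .j → ∃ k, Q u (L y) k := fun y hy =>
    exists_Q ho hsigma (by rw [hudef, sigma_prod σ hsigma]; exact G_word_U hy)
  obtain ⟨k, hk⟩ := hq .d (by decide)
  have step : ∀ y w, lab y w = 3 → w ≠ .j → Q u (L y) k → Q u (L w) k := by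
    intro y w hyw hw hy
    obtain ⟨k', hk'⟩ := hq w hw
    rwa [hy.braid hk' (hb y w hyw)]
  have kc := step .d .c (by decide +kernel) (by decide +kernel) hk
  have kb := step .c .b (by decide +kernel) (by decide) kc
  have ka := step .b .a (by decide +kernel) (by decide) kb
  have ke := step .d .e (by decide +kernel) (by decide +kernel) hk
  have kf := step .e .f (by decide +kernel) (by decide) ke
  have kg := step .f .g (by decide +kernel) (by decide) kf
  have kh := step .d .h (by decide +kernel) (by decide +kernel) hk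
  have ki := step .h .i (by decide +kernel) (by decide) kh
  have hall : ∀ y, y ≠ .j → Q u (L y) k := fun y hy => by
    cases y <;> first | exact absurd rfl hy | assumption
  have hU : ∀ y ∈ UW, y ≠ .j := by decide +kernel
  have h63 : k ^ 63 = 1 := by
    have h := Q.prod (g := u) L UW fun y hy => hall y (hU y hy)
    rw [← hudef, show UW.length = 63 from rfl] at h
    exact h.unique ⟨one_mem _, by rw [one_mul]⟩
  have hk1 : k = 1 := eq_one_of_odd (hk.sq (by rw [hsq]; exact one_mem _)) h63
  show u * L .i = L .i * u
  rw [ki.2, hk1, one_mul]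

end scalar

end Cfsg.Agent.Fi23Mult
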